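import Cfsg.Agent.TISuzuki.Orbits

/-!
# Fixed subgroups of involutions in a transitive group without an inverting element
-/

set_option autoImplicit false
set_option linter.unusedSectionVars false
set_option linter.style.haveILetI false

namespace CfsgLib.TISuzuki

variable {P H : Type*} [CommGroup P] [Finite P] [Group H] [Finite H] [MulDistribMulAction H P]
  [FaithfulSMul H P]

/-- Without an element inverting everything, a transitive group whose elements of odd order act
freely has involutions fixing a subgroup of square root order. -/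
theorem sqrt_fix {r : ℕ} (hrodd : Odd r) (hexp : ∀ x : P, x ^ r = 1) [Nontrivial P]
    (hfpf : ∀ a : H, Odd (orderOf a) → a ≠ 1 → ∀ x : P, a • x = x → x = 1)
    (u : P) (htr : ∀ x : P, x ≠ 1 → ∃ h : H, h • u = x)
    (hz : ¬ ∃ z : H, ∀ x : P, z • x = x⁻¹) {s : H} (hs : orderOf s = 2) :
    Nat.card (orbFix s : Subgroup P) * Nat.card (orbFix s : Subgroup P) = Nat.card P := by
  classical
  haveI : Fact (Nat.Prime 2) := ⟨Nat.prime_two⟩
  have horb : ∀ x : P, x ≠ 1 → (∃ h : H, h • u = x) ∨ ∃ h : H, h • u = x :=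
    fun x hx => Or.inl (htr x hx)
  have hU : ∀ s : H, orderOf s = 2 → ∀ x : P, x ≠ 1 → s • x = x → ∃ h : H, h • u = x :=
    fun _ _ x hx _ => htr x hx
  have hno : ∀ s : H, s * s = 1 → s ≠ 1 → ∃ x : P, x ≠ 1 ∧ s • x = x := by
    intro s hs _
    by_contra hcon
    refine hz ⟨s, smul_eq_inv_of_fix_bot hrodd hexp hs fun x hx => ?_⟩
    by_contra hx1
    exact hcon ⟨x, hx1, hx⟩
  have hss : s * s = 1 := by rw [← pow_two, ← hs, pow_orderOf_eq_one]
  have hO : s ∉ Cfsg.pCore 2 H := by
    intro hmem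
    have hpc : IsPGroup 2 (Cfsg.pCore 2 H) := CfsgLib.LocalP.isPGroup_pCore
    haveI hpn : (Cfsg.pCore 2 H).Normal := inferInstance
    let W : Subgroup H :=
      { carrier := {w | w ∈ Cfsg.pCore 2 H ∧ (∀ k ∈ Cfsg.pCore 2 H, w * k = k * w) ∧ w * w = 1}
        one_mem' := ⟨one_mem _, by simp, by simp⟩
        mul_mem' := fun {a b} ha hb => ⟨mul_mem ha.1 hb.1,
          fun k hk => by rw [mul_assoc, hb.2.1 k hk, ← mul_assoc, ha.2.1 k hk, mul_assoc],
          by rw [show a * b * (a * b) = a * (b * a) * b by group, ← ha.2.1 b hb.1,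
            show a * (a * b) * b = (a * a) * (b * b) by group, ha.2.2, hb.2.2, one_mul]⟩
        inv_mem' := fun {a} ha => ⟨inv_mem ha.1,
          fun k hk => by rw [inv_eq_of_mul_eq_one_right ha.2.2]; exact ha.2.1 k hk,
          by rw [inv_eq_of_mul_eq_one_right ha.2.2]; exact ha.2.2⟩ }
    haveI hWn : W.Normal := ⟨fun w hw g => ⟨hpn.conj_mem w hw.1 g, fun k hk => by
        have := hw.2.1 (g⁻¹ * k * g) (by simpa using hpn.conj_mem k hk g⁻¹)
        calc g * w * g⁻¹ * k = g * (w * (g⁻¹ * k * g)) * g⁻¹ := by group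
          _ = g * ((g⁻¹ * k * g) * w) * g⁻¹ := by rw [this]
          _ = k * (g * w * g⁻¹) := by group,
        by rw [show g * w * g⁻¹ * (g * w * g⁻¹) = g * (w * w) * g⁻¹ by group, hw.2.2]; group⟩⟩
    haveI : Nontrivial (Cfsg.pCore 2 H) := ⟨⟨⟨s, hmem⟩, 1, fun h => by
      have h' : s = 1 := congrArg Subtype.val h
      rw [h', orderOf_one] at hs
      exact absurd hs (by norm_num)⟩⟩
    haveI := hpc.center_nontrivial
    obtain ⟨n, hn⟩ := IsPGroup.iff_card.mp (hpc.to_subgroup (Subgroup.center (Cfsg.pCore 2 H)))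
    have h2 : 2 ∣ Nat.card (Subgroup.center (Cfsg.pCore 2 H)) := by
      have h1 : 1 < Nat.card (Subgroup.center (Cfsg.pCore 2 H)) := Finite.one_lt_card
      rcases n with _ | n
      · simp [hn] at h1
      · exact hn ▸ dvd_pow_self 2 n.succ_ne_zero
    obtain ⟨c, hc⟩ := exists_prime_orderOf_dvd_card' 2 h2
    have hcW : ((c : Cfsg.pCore 2 H) : H) ∈ W := ⟨c.1.2, fun k hk =>
      congrArg Subtype.val (Subgroup.mem_center_iff.mp c.2 ⟨k, hk⟩).symm, by
      have := pow_orderOf_eq_one c
      rw [hc, pow_two] at this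
      exact congrArg (fun t => ((t : Subgroup.center (Cfsg.pCore 2 H)).1 : H)) this⟩
    refine false_of_normal_two hrodd hexp u u horb hU hno W (fun w hw => hw.2.2)
      (fun a ha b hb => ha.2.1 b hb.1) fun hbot => ?_
    rw [hbot, Subgroup.mem_bot] at hcW
    have : c = 1 := Subtype.ext (Subtype.ext hcW)
    rw [this, orderOf_one] at hc
    exact absurd hc (by norm_num)
  obtain ⟨a, ha1, ha2, ha3⟩ := CfsgLib.BaerSuzuki.involution_inverts_odd hs hO
  have hsi : s⁻¹ = s := inv_eq_of_mul_eq_one_right hss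
  rw [hsi] at ha3
  have hsa : s * a * (s * a) = 1 := by
    rw [← mul_assoc, ha3, inv_mul_cancel]
  -- `s * a` is a conjugate of `s`
  obtain ⟨m, hm⟩ := ha2
  have hbrel : ∀ k : ℕ, s * a ^ k * s = (a ^ k)⁻¹ := fun k => by
    have := congrArg (fun t => t ^ k) (show s * a * s⁻¹ = a⁻¹ by rw [hsi, ha3])
    simp only [conj_pow, inv_pow] at this
    rwa [hsi] at this
  set b := a ^ (m + 1) with hb
  have hconj : b⁻¹ * s * b⁻¹⁻¹ = s * a := by
    have hbb : b * b = a := by
      rw [hb, ← pow_add, show m + 1 + (m + 1) = 2 * m + 1 + 1 by omega, pow_succ, ← hm,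
        pow_orderOf_eq_one, one_mul]
    rw [inv_inv, ← hbrel (m + 1)]
    calc s * b * s * s * b = s * b * (s * s) * b := by group
      _ = s * a := by rw [hss, mul_one, mul_assoc, hbb]
  have hmeet : ∀ x : P, (s • x = x → (s * a) • x = x → x = 1) ∧
      (s • x = x⁻¹ → (s * a) • x = x⁻¹ → x = 1) := by
    intro x
    constructor <;> intro h1 h2 <;> refine hfpf a ⟨m, hm⟩ ha1 x ?_
    · have := congrArg (fun t => s • t) h2
      simpa [smul_smul, ← mul_assoc, hss, h1] using this
    · have := congrArg (fun t => s • t) h2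
      simpa [smul_smul, ← mul_assoc, hss, h1, smul_inv'] using this
  have hprod : ∀ A B : Subgroup P, (∀ x, x ∈ A → x ∈ B → x = 1) →
      Nat.card A * Nat.card B ≤ Nat.card P := by
    intro A B h
    rw [← Nat.card_prod]
    refine Nat.card_le_card_of_injective (fun q => (q.1 : P) * q.2) ?_
    rintro ⟨a, b⟩ ⟨c, d⟩ e
    have e' : (a : P) * b = c * d := e
    have e1 : ((c : P)⁻¹ * a) = d * (b : P)⁻¹ := by
      rw [eq_mul_inv_iff_mul_eq, mul_assoc, e', inv_mul_cancel_left]
    have hm : ((c : P)⁻¹ * a) = 1 :=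
      h _ (mul_mem (inv_mem c.2) a.2) (e1 ▸ mul_mem d.2 (inv_mem b.2))
    have hac : a = c := Subtype.ext (inv_mul_eq_one.mp hm).symm
    subst hac
    exact Prod.ext rfl (Subtype.ext (mul_left_cancel e'))
  have h1 := card_fix_mul_card_inv hrodd hexp hss
  have h2 := card_fix_mul_card_inv hrodd hexp hsa
  have hcc : Nat.card (orbFix (s * a) : Subgroup P) = Nat.card (orbFix s : Subgroup P) := by
    rw [← hconj]; exact card_fix_conj _ _
  rw [hcc] at h2
  have h3 := hprod (orbFix s) (orbFix (s * a)) fun x h h' => (hmeet x).1 h h'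
  have h4 := hprod (orbInv s) (orbInv (s * a)) fun x h h' => (hmeet x).2 h h'
  rw [hcc] at h3
  set c := Nat.card (orbFix s : Subgroup P) with hcdef
  set i := Nat.card (orbInv s : Subgroup P)
  have hcpos : 0 < c := Nat.card_pos
  have hipos : 0 < i := Nat.card_pos
  have hi' : Nat.card (orbInv (s * a) : Subgroup P) = i :=
    Nat.eq_of_mul_eq_mul_left hcpos (h2.trans h1.symm)
  rw [hi'] at h4
  have hci : c = i := by
    rw [← h1] at h3 h4
    exact le_antisymm (Nat.le_of_mul_le_mul_left h3 hcpos) (Nat.le_of_mul_le_mul_right h4 hipos)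
  have hPc : Nat.card P = c * c := by rw [← h1, ← hci]
  exact hPc.symm

end CfsgLib.TISuzuki
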